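import Cfsg.Prelude.Def_SporCoxeter

set_option autoImplicit false

/-!
# Presentations used for the Schur multiplier of `PSL₃(4)` (S2088)

`PE`: a presentation of the full covering group `(4² × 3).PSL₃(4)` on generators `x`, `p` (order 5, generating a
subgroup `2⁴:5`), `w` (order 7) and central generators `a` (order 12), `b` (order 4).  Apart from the definitions of
`a`, `b` and their centrality, every relator is a power relation or says that a conjugate of a power of a generator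
is a power of a generator, so it holds in every stem extension of `PSL₃(4)` for the lifts of order 5, 5, 7.
`PC`: the covering group `2².(2⁴:5)` of the subgroup generated by `x, p`; `PX`: the cyclic group of order 5.
-/

namespace Cfsg.Agent.Helper96.L34

namespace PE

/-- the generators -/
inductive Gen
  | x
  | p
  | w
  | a
  | b
  deriving DecidableEq

/-- the generator x as a word -/ abbrev x : FreeGroup Gen := FreeGroup.of Gen.x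
/-- the generator p as a word -/ abbrev p : FreeGroup Gen := FreeGroup.of Gen.p
/-- the generator w as a word -/ abbrev w : FreeGroup Gen := FreeGroup.of Gen.w
/-- the generator a as a word -/ abbrev a : FreeGroup Gen := FreeGroup.of Gen.a
/-- the generator b as a word -/ abbrev b : FreeGroup Gen := FreeGroup.of Gen.b

/-- no Coxeter graph -/
def edges : List (Gen × ℕ × Gen) := []

/-- the relators: powers, conjugation relations, definitions of `a`, `b`, centrality -/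
def extra : List (FreeGroup Gen) := [
  x * x * x * x * x,
  p * p * p * p * p,
  w * w * w * w * w * w * w,
  p * x⁻¹ * p * x⁻¹ * p * x * p⁻¹ * x * p⁻¹ * x,
  p⁻¹ * x⁻¹ * x⁻¹ * p * x⁻¹ * p * x * p⁻¹ * x * x * p * x,
  p * x⁻¹ * p * x⁻¹ * p * p * x * p⁻¹ * x * p⁻¹ * x * x,
  p⁻¹ * x * p⁻¹ * x * p * p * x⁻¹ * p * x⁻¹ * p * x * x,
  x * p * p * x⁻¹ * p * x * p⁻¹ * x * p⁻¹ * p⁻¹ * x⁻¹ * p,
  x⁻¹ * w⁻¹ * x * p⁻¹ * p⁻¹ * x * w * x⁻¹ * p * p * x⁻¹ * w * x * w⁻¹ * w⁻¹,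
  w * p * x⁻¹ * x⁻¹ * p * x⁻¹ * w⁻¹ * x * w * x * p⁻¹ * x * x * p⁻¹ * w⁻¹ * x,
  w * p * x * x * w * p * x⁻¹ * p * x * p⁻¹ * w⁻¹ * x⁻¹ * x⁻¹ * p⁻¹ * w⁻¹ * x⁻¹,
  x⁻¹ * p * w⁻¹ * x⁻¹ * x⁻¹ * p⁻¹ * w⁻¹ * p * w * p * x * x * w * p⁻¹ * x * p,
  w⁻¹ * p⁻¹ * x⁻¹ * w * p * x * w⁻¹ * x * w * x⁻¹ * p⁻¹ * w⁻¹ * x * p * w * x,
  w⁻¹ * p⁻¹ * x⁻¹ * w * p * x * w⁻¹ * p * w * x⁻¹ * p⁻¹ * w⁻¹ * x * p * w * p,
  p⁻¹ * x * w * x⁻¹ * p⁻¹ * x * w * x * w⁻¹ * x⁻¹ * p * x * w⁻¹ * x⁻¹ * p * x,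
  x * p⁻¹ * w * x⁻¹ * p⁻¹ * x * w * p * w⁻¹ * x⁻¹ * p * x * w⁻¹ * p * x⁻¹ * p,
  x * w * w * p⁻¹ * x * w * w * x * w⁻¹ * w⁻¹ * x⁻¹ * p * w⁻¹ * w⁻¹ * x⁻¹ * p⁻¹,
  w * w * p⁻¹ * x * w * w * x⁻¹ * p * x * w⁻¹ * w⁻¹ * x⁻¹ * p * w⁻¹ * w⁻¹ * x⁻¹,
  x * w * x * x * p⁻¹ * p⁻¹ * x * w * x⁻¹ * p * p * x⁻¹ * x⁻¹ * w⁻¹ * x⁻¹ * w⁻¹ * w⁻¹,
  x * x * p⁻¹ * p⁻¹ * x * w⁻¹ * x⁻¹ * w * w * x * w * x⁻¹ * p * p * x⁻¹ * x⁻¹ * w⁻¹,
  w⁻¹ * p⁻¹ * x⁻¹ * w * p * x * w⁻¹ * p * p * w * x⁻¹ * p⁻¹ * w⁻¹ * x * p * w * p * p,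
  x * p⁻¹ * p⁻¹ * w * w * w * p * w * p⁻¹ * w⁻¹ * a⁻¹,
  x * w * x * w * x * w * b⁻¹,
  a * x * a⁻¹ * x⁻¹,
  a * p * a⁻¹ * p⁻¹,
  a * w * a⁻¹ * w⁻¹,
  b * x * b⁻¹ * x⁻¹,
  b * p * b⁻¹ * p⁻¹,
  b * w * b⁻¹ * w⁻¹,
  a * b * a⁻¹ * b⁻¹ ]

end PE

namespace PC

/-- the generators -/
inductive Gen
  | x
  | p
  deriving DecidableEq

/-- the generator x as a word -/ abbrev x : FreeGroup Gen := FreeGroup.of Gen.x
/-- the generator p as a word -/ abbrev p : FreeGroup Gen := FreeGroup.of Gen.p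

/-- no Coxeter graph -/
def edges : List (Gen × ℕ × Gen) := []

/-- the relators: the relators of `PE` that only involve `x, p` -/
def extra : List (FreeGroup Gen) := [
  x * x * x * x * x,
  p * p * p * p * p,
  p * x⁻¹ * p * x⁻¹ * p * x * p⁻¹ * x * p⁻¹ * x,
  p⁻¹ * x⁻¹ * x⁻¹ * p * x⁻¹ * p * x * p⁻¹ * x * x * p * x,
  p * x⁻¹ * p * x⁻¹ * p * p * x * p⁻¹ * x * p⁻¹ * x * x,
  p⁻¹ * x * p⁻¹ * x * p * p * x⁻¹ * p * x⁻¹ * p * x * x,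
  x * p * p * x⁻¹ * p * x * p⁻¹ * x * p⁻¹ * p⁻¹ * x⁻¹ * p ]

end PC

namespace PX

/-- the generators -/
inductive Gen
  | x
  deriving DecidableEq

/-- the generator x as a word -/ abbrev x : FreeGroup Gen := FreeGroup.of Gen.x

/-- no Coxeter graph -/
def edges : List (Gen × ℕ × Gen) := []

/-- the relators: `x ^ 5` -/
def extra : List (FreeGroup Gen) := [
  x * x * x * x * x ]

end PX

end Cfsg.Agent.Helper96.L34
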