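import Cfsg.Agent.Helper96.L34.Kernel

set_option autoImplicit false
set_option maxRecDepth 1000000

/-!
# The three permutation representations are faithful on the elements `a ^ m * b ^ k`
-/

namespace Cfsg.Agent.Helper96.L34

open Cfsg.Agent.Helper28 Cfsg.Spor

/-- the product of the three representations -/
noncomputable def psi : E →* (Equiv.Perm (Fin Perm1.ptabs.n) × Equiv.Perm (Fin Perm2.ptabs.n)) ×
    Equiv.Perm (Fin Perm3.ptabs.n) := (rho1.prod rho2).prod rho3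

theorem chk_trace : ∀ m, m < 12 → ∀ k, k < 4 → (m ≠ 0 ∨ k ≠ 0) →
    (trace Perm1.ptabs.perm (kw m k) 0 ≠ 0 ∨ trace Perm2.ptabs.perm (kw m k) 0 ≠ 0 ∨
      trace Perm3.ptabs.perm (kw m k) 0 ≠ 0) := by
  decide +kernel

theorem rho1_a12 : rho1 (eg .a) ^ 12 = 1 := by
  have h := rhoF_ev_eq_one Perm1.gen Perm1.idx 5 Perm1.ptabs Perm1.inv_ok Perm1.layout.hL Perm1.layout.hig
    (kw 12 0) (by decide +kernel) (by decide +kernel)
  rw [ev_kw Perm1.gen rfl rfl, pow_zero, mul_one] at h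
  have h' : rho1 (PresentedGroup.mk RE (FreeGroup.of PE.Gen.a ^ 12)) = 1 := h
  rwa [map_pow, map_pow] at h'

theorem rho2_a12 : rho2 (eg .a) ^ 12 = 1 := by
  have h := rhoF_ev_eq_one Perm2.gen Perm2.idx 5 Perm2.ptabs Perm2.inv_ok Perm2.layout.hL Perm2.layout.hig
    (kw 12 0) (by decide +kernel) (by decide +kernel)
  rw [ev_kw Perm2.gen rfl rfl, pow_zero, mul_one] at h
  have h' : rho2 (PresentedGroup.mk RE (FreeGroup.of PE.Gen.a ^ 12)) = 1 := h
  rwa [map_pow, map_pow] at h'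

theorem rho3_a12 : rho3 (eg .a) ^ 12 = 1 := by
  have h := rhoF_ev_eq_one Perm3.gen Perm3.idx 5 Perm3.ptabs Perm3.inv_ok Perm3.layout.hL Perm3.layout.hig
    (kw 12 0) (by decide +kernel) (by decide +kernel)
  rw [ev_kw Perm3.gen rfl rfl, pow_zero, mul_one] at h
  have h' : rho3 (PresentedGroup.mk RE (FreeGroup.of PE.Gen.a ^ 12)) = 1 := h
  rwa [map_pow, map_pow] at h'

theorem rho1_b4 : rho1 (eg .b) ^ 4 = 1 := by
  have h := rhoF_ev_eq_one Perm1.gen Perm1.idx 5 Perm1.ptabs Perm1.inv_ok Perm1.layout.hL Perm1.layout.hig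
    (kw 0 4) (by decide +kernel) (by decide +kernel)
  rw [ev_kw Perm1.gen rfl rfl, pow_zero, one_mul] at h
  have h' : rho1 (PresentedGroup.mk RE (FreeGroup.of PE.Gen.b ^ 4)) = 1 := h
  rwa [map_pow, map_pow] at h'

theorem rho2_b4 : rho2 (eg .b) ^ 4 = 1 := by
  have h := rhoF_ev_eq_one Perm2.gen Perm2.idx 5 Perm2.ptabs Perm2.inv_ok Perm2.layout.hL Perm2.layout.hig
    (kw 0 4) (by decide +kernel) (by decide +kernel)
  rw [ev_kw Perm2.gen rfl rfl, pow_zero, one_mul] at h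
  have h' : rho2 (PresentedGroup.mk RE (FreeGroup.of PE.Gen.b ^ 4)) = 1 := h
  rwa [map_pow, map_pow] at h'

theorem rho3_b4 : rho3 (eg .b) ^ 4 = 1 := by
  have h := rhoF_ev_eq_one Perm3.gen Perm3.idx 5 Perm3.ptabs Perm3.inv_ok Perm3.layout.hL Perm3.layout.hig
    (kw 0 4) (by decide +kernel) (by decide +kernel)
  rw [ev_kw Perm3.gen rfl rfl, pow_zero, one_mul] at h
  have h' : rho3 (PresentedGroup.mk RE (FreeGroup.of PE.Gen.b ^ 4)) = 1 := h
  rwa [map_pow, map_pow] at h'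

theorem psi_a12 : psi (eg .a) ^ 12 = 1 := by
  apply Prod.ext
  · apply Prod.ext
    · exact rho1_a12
    · exact rho2_a12
  · exact rho3_a12

theorem psi_b4 : psi (eg .b) ^ 4 = 1 := by
  apply Prod.ext
  · apply Prod.ext
    · exact rho1_b4
    · exact rho2_b4
  · exact rho3_b4

theorem mk_kw (m k : ℕ) :
    (PresentedGroup.mk RE (FreeGroup.of PE.Gen.a ^ m * FreeGroup.of PE.Gen.b ^ k) : E) =
      eg .a ^ m * eg .b ^ k := by
  rw [map_mul, map_pow, map_pow]; rfl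

theorem psi_inj : ∀ m, m < 12 → ∀ k, k < 4 → psi (eg .a) ^ m * psi (eg .b) ^ k = 1 → m = 0 ∧ k = 0 := by
  intro m hm k hk h
  by_contra hcon
  have hmk : m ≠ 0 ∨ k ≠ 0 := by
    by_contra h2
    rw [not_or, not_not, not_not] at h2
    exact hcon h2
  have h1 : psi (eg .a ^ m * eg .b ^ k) = 1 := by rw [map_mul, map_pow, map_pow]; exact h
  have c1 : rho1 (eg .a ^ m * eg .b ^ k) = 1 := congrArg (fun t => t.1.1) h1
  have c2 : rho2 (eg .a ^ m * eg .b ^ k) = 1 := congrArg (fun t => t.1.2) h1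
  have c3 : rho3 (eg .a ^ m * eg .b ^ k) = 1 := congrArg (fun t => t.2) h1
  have hlt : ∀ l ∈ kw m k, l < 10 := kw_lt m k
  rcases chk_trace m hm k hk hmk with t | t | t
  · have := rho1_ne_one_of_trace (kw m k) hlt t
    rw [ev_kw Perm1.gen rfl rfl, mk_kw] at this
    exact this c1
  · have := rho2_ne_one_of_trace (kw m k) hlt t
    rw [ev_kw Perm2.gen rfl rfl, mk_kw] at this
    exact this c2
  · have := rho3_ne_one_of_trace (kw m k) hlt t
    rw [ev_kw Perm3.gen rfl rfl, mk_kw] at this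
    exact this c3

end Cfsg.Agent.Helper96.L34
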