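import Cfsg.Agent.Helper96.L34.Kernel
import Cfsg.Agent.Helper96.Cover.Apriori

set_option autoImplicit false
set_option maxRecDepth 1000000

/-!
# Lifting the generators of `E` to a stem extension of `PSL₃(4)`

The relators of `E`, in structured form, and the images of the generators in a stem extension `σ : Γ →* G`:
`x, p, w` go to the lifts of order `5, 5, 7`, and `a, b` to the values of their defining words.
-/

namespace Cfsg.Agent.Helper96.L34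

open Cfsg.Agent.Helper28 Cfsg.Spor Cfsg.Agent.Helper96.Cover

/-- orders of the generators `x, p, w` (and `0` for the central generators) -/
def ord : PE.Gen → ℕ
  | .x => 5 | .p => 5 | .w => 7 | .a => 0 | .b => 0

/-- the conjugation relators `c * g ^ s * c⁻¹ * h ^ t` as data `(c, g, inverse?, s, h, inverse?, t)` -/
def p1data : List (FreeGroup PE.Gen × PE.Gen × Bool × ℕ × PE.Gen × Bool × ℕ) := [
  (PE.p * PE.x⁻¹ * PE.p * PE.x⁻¹, .p, false, 1, .x, false, 1),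
  (PE.p⁻¹ * PE.x⁻¹ * PE.x⁻¹ * PE.p * PE.x⁻¹, .p, false, 1, .x, false, 1),
  (PE.p * PE.x⁻¹ * PE.p * PE.x⁻¹, .p, false, 2, .x, false, 2),
  (PE.p⁻¹ * PE.x * PE.p⁻¹ * PE.x, .p, false, 2, .x, false, 2),
  (PE.x * PE.p * PE.p * PE.x⁻¹ * PE.p, .x, false, 1, .p, false, 1),
  (PE.x⁻¹ * PE.w⁻¹ * PE.x * PE.p⁻¹ * PE.p⁻¹ * PE.x, .w, false, 1, .w, true, 2),
  (PE.w * PE.p * PE.x⁻¹ * PE.x⁻¹ * PE.p * PE.x⁻¹ * PE.w⁻¹, .x, false, 1, .x, false, 1),
  (PE.w * PE.p * PE.x * PE.x * PE.w * PE.p * PE.x⁻¹, .p, false, 1, .x, true, 1),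
  (PE.x⁻¹ * PE.p * PE.w⁻¹ * PE.x⁻¹ * PE.x⁻¹ * PE.p⁻¹ * PE.w⁻¹, .p, false, 1, .p, false, 1),
  (PE.w⁻¹ * PE.p⁻¹ * PE.x⁻¹ * PE.w * PE.p * PE.x * PE.w⁻¹, .x, false, 1, .x, false, 1),
  (PE.w⁻¹ * PE.p⁻¹ * PE.x⁻¹ * PE.w * PE.p * PE.x * PE.w⁻¹, .p, false, 1, .p, false, 1),
  (PE.p⁻¹ * PE.x * PE.w * PE.x⁻¹ * PE.p⁻¹ * PE.x * PE.w, .x, false, 1, .x, false, 1),
  (PE.x * PE.p⁻¹ * PE.w * PE.x⁻¹ * PE.p⁻¹ * PE.x * PE.w, .p, false, 1, .p, false, 1),
  (PE.x * PE.w * PE.w * PE.p⁻¹ * PE.x * PE.w * PE.w, .x, false, 1, .p, true, 1),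
  (PE.w * PE.w * PE.p⁻¹ * PE.x * PE.w * PE.w * PE.x⁻¹, .p, false, 1, .x, true, 1),
  (PE.x * PE.w * PE.x * PE.x * PE.p⁻¹ * PE.p⁻¹ * PE.x, .w, false, 1, .w, true, 2),
  (PE.x * PE.x * PE.p⁻¹ * PE.p⁻¹ * PE.x * PE.w⁻¹ * PE.x⁻¹, .w, false, 2, .w, true, 1),
  (PE.w⁻¹ * PE.p⁻¹ * PE.x⁻¹ * PE.w * PE.p * PE.x * PE.w⁻¹, .p, false, 2, .p, false, 2) ]

/-- the relator of a datum -/
def p1of (d : FreeGroup PE.Gen × PE.Gen × Bool × ℕ × PE.Gen × Bool × ℕ) : FreeGroup PE.Gen :=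
  p1rel d.1 d.2.1 d.2.2.1 d.2.2.2.1 d.2.2.2.2.1 d.2.2.2.2.2.1 d.2.2.2.2.2.2

/-- the word defining `a` -/
def wa : FreeGroup PE.Gen := PE.x * PE.p⁻¹ * PE.p⁻¹ * PE.w * PE.w * PE.w * PE.p * PE.w * PE.p⁻¹ * PE.w⁻¹
/-- the word defining `b` -/
def wb : FreeGroup PE.Gen := PE.x * PE.w * PE.x * PE.w * PE.x * PE.w

/-- the central relators -/
def centrals : List (FreeGroup PE.Gen) := [
  wa * PE.a⁻¹, wb * PE.b⁻¹,
  PE.a * PE.x * PE.a⁻¹ * PE.x⁻¹, PE.a * PE.p * PE.a⁻¹ * PE.p⁻¹, PE.a * PE.w * PE.a⁻¹ * PE.w⁻¹,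
  PE.b * PE.x * PE.b⁻¹ * PE.x⁻¹, PE.b * PE.p * PE.b⁻¹ * PE.p⁻¹, PE.b * PE.w * PE.b⁻¹ * PE.w⁻¹,
  PE.a * PE.b * PE.a⁻¹ * PE.b⁻¹ ]

theorem extra_eq : PE.extra = [PE.x ^ 5, PE.p ^ 5, PE.w ^ 7] ++ p1data.map p1of ++ centrals := by
  decide +kernel

theorem hord : ∀ d ∈ p1data, ord d.2.1 = ord d.2.2.2.2.1 ∧ (ord d.2.1 = 5 ∨ ord d.2.1 = 7) := by
  decide

/-! ### consequences of the relators in `E` -/

theorem ea_eq : eg .a = PresentedGroup.mk RE wa := by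
  have h := rel_eq_one (wa * PE.a⁻¹) (by decide +kernel)
  rw [map_mul, map_inv, mul_inv_eq_one] at h
  exact h.symm

theorem eb_eq : eg .b = PresentedGroup.mk RE wb := by
  have h := rel_eq_one (wb * PE.b⁻¹) (by decide +kernel)
  rw [map_mul, map_inv, mul_inv_eq_one] at h
  exact h.symm

theorem ex_pow : eg .x ^ 5 = 1 := by
  have h := rel_eq_one (PE.x ^ 5) (by decide +kernel)
  rwa [map_pow] at h

theorem ep_pow : eg .p ^ 5 = 1 := by
  have h := rel_eq_one (PE.p ^ 5) (by decide +kernel)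
  rwa [map_pow] at h

theorem ew_pow : eg .w ^ 7 = 1 := by
  have h := rel_eq_one (PE.w ^ 7) (by decide +kernel)
  rwa [map_pow] at h

/-! ### the lifted generators -/

section Lift

variable {Γ : Type*} [Group Γ]

/-- the images of `x, p, w` -/
def baseGen (tx tp tw : Γ) : PE.Gen → Γ
  | .x => tx | .p => tp | .w => tw | .a => 1 | .b => 1

/-- the images of the generators in a stem extension, from the lifts `tx, tp, tw` of `x, p, w` -/
def liftGen (tx tp tw : Γ) : PE.Gen → Γ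
  | .x => tx | .p => tp | .w => tw
  | .a => FreeGroup.lift (baseGen tx tp tw) wa
  | .b => FreeGroup.lift (baseGen tx tp tw) wb

theorem lift_wa (tx tp tw : Γ) :
    FreeGroup.lift (liftGen tx tp tw) wa = FreeGroup.lift (baseGen tx tp tw) wa := by
  simp only [wa, map_mul, map_inv, FreeGroup.lift_apply_of, liftGen, baseGen]

theorem lift_wb (tx tp tw : Γ) :
    FreeGroup.lift (liftGen tx tp tw) wb = FreeGroup.lift (baseGen tx tp tw) wb := by
  simp only [wb, map_mul, map_inv, FreeGroup.lift_apply_of, liftGen, baseGen]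

variable {G : Type*} [Group G] (τ : E →* G) (σ : Γ →* G) (tx tp tw : Γ)

theorem map_baseGen (htx : σ tx = τ (eg .x)) (htp : σ tp = τ (eg .p)) (htw : σ tw = τ (eg .w))
    (hza : τ (eg .a) = 1) (hzb : τ (eg .b) = 1) (w : FreeGroup PE.Gen) :
    σ (FreeGroup.lift (baseGen tx tp tw) w) = τ (PresentedGroup.mk RE w) := by
  have : σ.comp (FreeGroup.lift (baseGen tx tp tw)) = τ.comp (PresentedGroup.mk RE) := by
    ext g
    simp only [MonoidHom.comp_apply, FreeGroup.lift_apply_of]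
    cases g
    · exact htx
    · exact htp
    · exact htw
    · rw [mk_of, hza]; exact map_one σ
    · rw [mk_of, hzb]; exact map_one σ
  exact DFunLike.congr_fun this w

theorem map_liftGen (htx : σ tx = τ (eg .x)) (htp : σ tp = τ (eg .p)) (htw : σ tw = τ (eg .w))
    (hza : τ (eg .a) = 1) (hzb : τ (eg .b) = 1) (g : PE.Gen) :
    σ (liftGen tx tp tw g) = τ (eg g) := by
  cases g
  · exact htx
  · exact htp
  · exact htw
  · show σ (FreeGroup.lift (baseGen tx tp tw) wa) = _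
    rw [map_baseGen τ σ tx tp tw htx htp htw hza hzb, ea_eq]
  · show σ (FreeGroup.lift (baseGen tx tp tw) wb) = _
    rw [map_baseGen τ σ tx tp tw htx htp htw hza hzb, eb_eq]

theorem map_lift (htx : σ tx = τ (eg .x)) (htp : σ tp = τ (eg .p)) (htw : σ tw = τ (eg .w))
    (hza : τ (eg .a) = 1) (hzb : τ (eg .b) = 1) (w : FreeGroup PE.Gen) :
    σ (FreeGroup.lift (liftGen tx tp tw) w) = τ (PresentedGroup.mk RE w) := by
  have : σ.comp (FreeGroup.lift (liftGen tx tp tw)) = τ.comp (PresentedGroup.mk RE) := by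
    ext g
    simp only [MonoidHom.comp_apply, FreeGroup.lift_apply_of]
    exact map_liftGen τ σ tx tp tw htx htp htw hza hzb g
  exact DFunLike.congr_fun this w

end Lift

end Cfsg.Agent.Helper96.L34
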