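import Cfsg.Agent.Helper96.L34.Lift

set_option autoImplicit false
set_option maxRecDepth 100000

/-!
# The relators of `E` hold for the lifted generators in a stem extension
-/

namespace Cfsg.Agent.Helper96.L34

open Cfsg.Agent.Helper28 Cfsg.Spor Cfsg.Agent.Helper96.Cover

theorem comm_one {Γ : Type*} [Group Γ] (z t : Γ) (hz : z ∈ Subgroup.center Γ) :
    z * t * z⁻¹ * t⁻¹ = 1 := by
  rw [Subgroup.mem_center_iff] at hz
  rw [← hz t]; group

section Main

variable {Γ : Type*} [Group Γ] [Finite Γ] {G : Type*} [Group G] (τ : E →* G) (σ : Γ →* G)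

theorem lift_rels (hc : σ.ker ≤ Subgroup.center Γ) (h5 : (Nat.card σ.ker).Coprime 5)
    (h7 : (Nat.card σ.ker).Coprime 7) (tx tp tw : Γ) (htx : σ tx = τ (eg .x)) (htp : σ tp = τ (eg .p))
    (htw : σ tw = τ (eg .w)) (htx5 : tx ^ 5 = 1) (htp5 : tp ^ 5 = 1) (htw7 : tw ^ 7 = 1)
    (hza : τ (eg .a) = 1) (hzb : τ (eg .b) = 1) :
    ∀ r ∈ RE, FreeGroup.lift (liftGen tx tp tw) r = 1 := by
  intro r hr
  rcases hr with hr | hr
  · obtain ⟨x, hx, -⟩ := hr
    simp [coxNodes, PE.edges] at hx
  have hr' : r ∈ PE.extra := hr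
  -- the value of a relator lies in the kernel
  have hk : σ (FreeGroup.lift (liftGen tx tp tw) r) = 1 := by
    rw [map_lift τ σ tx tp tw htx htp htw hza hzb, rel_eq_one r hr', map_one]
  have hcen : ∀ g : PE.Gen, τ (eg g) = 1 → liftGen tx tp tw g ∈ Subgroup.center Γ := by
    intro g hg
    apply hc
    rw [MonoidHom.mem_ker, map_liftGen τ σ tx tp tw htx htp htw hza hzb, hg]
  have ca := hcen .a hza
  have cb := hcen .b hzb
  have hf5 : ∀ g : PE.Gen, ord g = 5 → liftGen tx tp tw g ^ 5 = 1 := by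
    intro g hg
    cases g <;> simp [ord] at hg
    · exact htx5
    · exact htp5
  have hf7 : ∀ g : PE.Gen, ord g = 7 → liftGen tx tp tw g ^ 7 = 1 := by
    intro g hg
    cases g <;> simp [ord] at hg
    exact htw7
  rw [extra_eq, List.mem_append, List.mem_append] at hr'
  rcases hr' with (hr' | hr') | hr'
  · -- powers
    simp only [List.mem_cons, List.not_mem_nil, or_false] at hr'
    rcases hr' with rfl | rfl | rfl
    · simpa only [map_pow, FreeGroup.lift_apply_of, liftGen] using htx5
    · simpa only [map_pow, FreeGroup.lift_apply_of, liftGen] using htp5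
    · simpa only [map_pow, FreeGroup.lift_apply_of, liftGen] using htw7
  · -- conjugation relators
    obtain ⟨d, hd, rfl⟩ := List.mem_map.1 hr'
    obtain ⟨ho1, ho2⟩ := hord d hd
    unfold p1of at hk ⊢
    rcases ho2 with ho2 | ho2
    · exact lift_p1rel σ hc 5 h5 _ _ _ _ _ _ _ _ (hf5 _ ho2) (hf5 _ (ho1 ▸ ho2)) hk
    · exact lift_p1rel σ hc 7 h7 _ _ _ _ _ _ _ _ (hf7 _ ho2) (hf7 _ (ho1 ▸ ho2)) hk
  · -- definitions and centrality
    simp only [centrals, List.mem_cons, List.not_mem_nil, or_false] at hr'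
    rcases hr' with rfl | rfl | rfl | rfl | rfl | rfl | rfl | rfl | rfl
    · rw [map_mul, map_inv, lift_wa, FreeGroup.lift_apply_of]
      exact mul_inv_cancel _
    · rw [map_mul, map_inv, lift_wb, FreeGroup.lift_apply_of]
      exact mul_inv_cancel _
    · simp only [map_mul, map_inv, FreeGroup.lift_apply_of]; exact comm_one _ _ ca
    · simp only [map_mul, map_inv, FreeGroup.lift_apply_of]; exact comm_one _ _ ca
    · simp only [map_mul, map_inv, FreeGroup.lift_apply_of]; exact comm_one _ _ ca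
    · simp only [map_mul, map_inv, FreeGroup.lift_apply_of]; exact comm_one _ _ cb
    · simp only [map_mul, map_inv, FreeGroup.lift_apply_of]; exact comm_one _ _ cb
    · simp only [map_mul, map_inv, FreeGroup.lift_apply_of]; exact comm_one _ _ cb
    · simp only [map_mul, map_inv, FreeGroup.lift_apply_of]; exact comm_one _ _ ca

end Main

end Cfsg.Agent.Helper96.L34
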