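import Cfsg.Agent.Helper96.L34.Kernel

set_option autoImplicit false
set_option maxRecDepth 100000

/-!
# `E` is perfect
-/

namespace Cfsg.Agent.Helper96.L34

open Cfsg.Agent.Helper28 Cfsg.Spor

section Perfect

variable {C : Type*} [CommGroup C] (f : E →* C)

theorem hom_comm_trivial_gen (g : PE.Gen) : f (eg g) = 1 := by
  suffices hh : Additive.ofMul (f (eg g)) = (0 : Additive C) from hh
  have rel : ∀ r ∈ PE.extra, Additive.ofMul (f (PresentedGroup.mk RE r)) = (0 : Additive C) := by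
    intro r hr
    rw [rel_eq_one r hr, map_one]; rfl
  have r0 := rel (PE.x * PE.x * PE.x * PE.x * PE.x) (by decide +kernel)
  have r9 := rel (PE.w * PE.p * PE.x⁻¹ * PE.x⁻¹ * PE.p * PE.x⁻¹ * PE.w⁻¹ * PE.x * PE.w * PE.x * PE.p⁻¹ * PE.x * PE.x * PE.p⁻¹ * PE.w⁻¹ * PE.x) (by decide +kernel)
  have r3 := rel (PE.p * PE.x⁻¹ * PE.p * PE.x⁻¹ * PE.p * PE.x * PE.p⁻¹ * PE.x * PE.p⁻¹ * PE.x) (by decide +kernel)
  have r8 := rel (PE.x⁻¹ * PE.w⁻¹ * PE.x * PE.p⁻¹ * PE.p⁻¹ * PE.x * PE.w * PE.x⁻¹ * PE.p * PE.p * PE.x⁻¹ * PE.w * PE.x * PE.w⁻¹ * PE.w⁻¹) (by decide +kernel)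
  have ra := rel (PE.x * PE.p⁻¹ * PE.p⁻¹ * PE.w * PE.w * PE.w * PE.p * PE.w * PE.p⁻¹ * PE.w⁻¹ * PE.a⁻¹) (by decide +kernel)
  have rb := rel (PE.x * PE.w * PE.x * PE.w * PE.x * PE.w * PE.b⁻¹) (by decide +kernel)
  simp only [map_mul, map_inv, mk_of, ofMul_mul, ofMul_inv] at r0 r9 r3 r8 ra rb
  set X : Additive C := Additive.ofMul (f (eg .x)) with hX
  set Pp : Additive C := Additive.ofMul (f (eg .p)) with hP
  set W : Additive C := Additive.ofMul (f (eg .w)) with hW
  set A : Additive C := Additive.ofMul (f (eg .a)) with hA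
  set B : Additive C := Additive.ofMul (f (eg .b)) with hB
  have eX2 : X + X = 0 := by
    have e : X + X = W + Pp + -X + -X + Pp + -X + -W + X + W + X + -Pp + X + X + -Pp + -W + X := by abel
    rw [e, r9]
  have eX : X = 0 := by
    have e : X = (X + X + X + X + X) - (X + X) - (X + X) := by abel
    rw [e, r0, eX2]; simp
  have eP : Pp = 0 := by
    have e : Pp = (Pp + -X + Pp + -X + Pp + X + -Pp + X + -Pp + X) - X := by abel
    rw [e, r3, eX]; simp
  have eW : W = 0 := by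
    have e : W = -(-X + -W + X + -Pp + -Pp + X + W + -X + Pp + Pp + -X + W + X + -W + -W) := by abel
    rw [e, r8, neg_zero]
  have eA : A = 0 := by
    have e : A = (X + -Pp + -Pp + W + W + W + Pp + W + -Pp + -W) - (X + -Pp + -Pp + W + W + W + Pp + W + -Pp + -W + -A) := by abel
    rw [e, ra, eX, eP, eW]; simp
  have eB : B = 0 := by
    have e : B = (X + W + X + W + X + W) - (X + W + X + W + X + W + -B) := by abel
    rw [e, rb, eX, eW]; simp
  cases g
  · exact eX
  · exact eP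
  · exact eW
  · exact eA
  · exact eB

end Perfect

theorem commutator_E : commutator E = ⊤ := by
  rw [eq_top_iff, ← closure_eg, Subgroup.closure_le]
  rintro _ ⟨g, rfl⟩
  have h := hom_comm_trivial_gen (Abelianization.of : E →* Abelianization E) g
  exact (QuotientGroup.eq_one_iff _).mp h

end Cfsg.Agent.Helper96.L34
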