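import Cfsg.Agent.Helper96.L34.Main
import Cfsg.Agent.Helper7.L34F1
import Cfsg.Agent.Helper7.L34K1
import Cfsg.Agent.Helper66.L34K2

set_option autoImplicit false

/-!
# A group of order `20160` that is the quotient of `E` by `⟨a, b⟩` has Schur multiplier `3 × 4 × 4`
-/

namespace Cfsg.Agent.Helper96.L34

open Cfsg.Agent.Helper28 Cfsg.Spor

universe u

theorem hasSchurMultiplier_of_tau {G : Type u} [Group G] (τ : E →* G) (hτ : Function.Surjective τ)
    (hG : Nat.card G = 20160) (ha : τ (eg .a) = 1) (hb : τ (eg .b) = 1) :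
    Cfsg.HasSchurMultiplier G (Multiplicative (ZMod 3 × ZMod 4 × ZMod 4)) := by
  haveI := card_E.1
  have hK := card_ker_le τ hτ hG
  have haK : eg .a ∈ τ.ker := ha
  have hbK : eg .b ∈ τ.ker := hb
  obtain ⟨ha12, hb4⟩ := Cfsg.Agent.Helper66.L34.pow_eq_one_of_faithful psi τ.ker hK (eg .a) (eg .b)
    ea_center haK hbK psi_a12 psi_b4 psi_inj
  have hinj : ∀ i < 3, ∀ j < 4, ∀ k < 4,
      eg .a ^ (4 * i + 3 * j) * eg .b ^ k = 1 → i = 0 ∧ j = 0 ∧ k = 0 := by
    intro i hi j hj k hk h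
    have h1 : psi (eg .a) ^ ((4 * i + 3 * j) % 12) * psi (eg .b) ^ k = 1 := by
      rw [← pow_eq_pow_mod _ psi_a12, ← map_pow, ← map_pow, ← map_mul, h, map_one]
    obtain ⟨h2, h3⟩ := psi_inj _ (Nat.mod_lt _ (by norm_num)) k hk h1
    omega
  obtain ⟨hcen, ⟨e⟩⟩ := Cfsg.Agent.Helper7.L34.kernel_iso τ.ker hK (eg .a) (eg .b) ea_center eb_center
    haK hbK ha12 hb4 hinj
  have hstem : Cfsg.IsStemExtension τ := ⟨hτ, hcen, by rw [commutator_E]; exact le_top⟩
  exact Cfsg.Agent.Helper7.L34.hasSchurMultiplier_of_universal τ hstem _ e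
    (fun Γ _ _ σ hσ => exists_lift τ hτ hG ha hb σ hσ)

end Cfsg.Agent.Helper96.L34
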