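import Cfsg.Agent.Helper96.L34.CertX.Main
import Cfsg.Agent.Helper96.L34.CertC.Main
import Cfsg.Agent.Helper96.L34.CertE.Main
import Cfsg.Agent.Helper28.SubPres

set_option autoImplicit false

/-!
# The order of the presented covering group `PE` is at most `967680 = 48 * |PSL₃(4)|`
-/

namespace Cfsg.Agent.Helper96.L34

open Cfsg.Agent.Helper28 Cfsg.Spor

/-- the relators of `PE` -/
abbrev RE : Set (FreeGroup PE.Gen) := coxRels PE.edges PE.extra
/-- the relators of `PC` -/
abbrev RC : Set (FreeGroup PC.Gen) := coxRels PC.edges PC.extra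
/-- the relators of `PX` -/
abbrev RX : Set (FreeGroup PX.Gen) := coxRels PX.edges PX.extra

/-- the covering group -/
abbrev E : Type := PresentedGroup RE

theorem card_PX : Finite (PresentedGroup RX) ∧ Nat.card (PresentedGroup RX) = 5 := by
  refine card_of_index_bot RX CertX.Y ?_ 5 (by norm_num) CertX.main_index
  ext y; simp [CertX.Ylist]

/-- inclusion of the generators of `PX` in `PC` -/
def iotaXC : PX.Gen → PC.Gen
  | .x => .x

/-- inclusion of the generators of `PC` in `PE` -/
def iotaCE : PC.Gen → PE.Gen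
  | .x => .x | .p => .p

theorem hextraXC : ∀ r ∈ PX.extra, FreeGroup.map iotaXC r ∈ PC.extra := by decide +kernel

theorem hextraCE : ∀ r ∈ PC.extra, FreeGroup.map iotaCE r ∈ PE.extra := by decide +kernel

theorem hrelsXC : ∀ r ∈ RX, PresentedGroup.mk RC (FreeGroup.map iotaXC r) = 1 :=
  subdiagram_rels iotaXC PX.edges PX.extra PC.edges PC.extra (by decide)
    (fun r hr => Or.inr (hextraXC r hr))

theorem hrelsCE : ∀ r ∈ RC, PresentedGroup.mk RE (FreeGroup.map iotaCE r) = 1 :=
  subdiagram_rels iotaCE PC.edges PC.extra PE.edges PE.extra (by decide)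
    (fun r hr => Or.inr (hextraCE r hr))

theorem hYC : CertC.Y = Set.range (fun b => FreeGroup.of (iotaXC b)) := by
  ext y
  constructor
  · intro hy
    have hy' : y ∈ CertC.Ylist := hy
    simp only [CertC.Ylist, List.mem_singleton] at hy'
    exact ⟨.x, hy'.symm⟩
  · rintro ⟨b, rfl⟩
    cases b
    show _ ∈ CertC.Ylist
    simp [CertC.Ylist, iotaXC]

theorem hYE : CertE.Y = Set.range (fun b => FreeGroup.of (iotaCE b)) := by
  ext y
  constructor
  · intro hy
    have hy' : y ∈ CertE.Ylist := hy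
    simp only [CertE.Ylist, List.mem_cons, List.not_mem_nil, or_false] at hy'
    rcases hy' with rfl | rfl
    · exact ⟨.x, rfl⟩
    · exact ⟨.p, rfl⟩
  · rintro ⟨b, rfl⟩
    show _ ∈ CertE.Ylist
    cases b <;> simp [CertE.Ylist, iotaCE]

theorem card_PC : Finite (PresentedGroup RC) ∧ Nat.card (PresentedGroup RC) ≤ 64 * 5 := by
  obtain ⟨h1, h2, -⟩ := card_le_of_link iotaXC RX RC hrelsXC CertC.Y hYC 64 5 (by norm_num)
    CertC.main_index card_PX.1 (le_of_eq card_PX.2)
  exact ⟨h1, h2⟩

theorem card_E : Finite E ∧ Nat.card E ≤ 967680 := by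
  obtain ⟨h1, h2, -⟩ := card_le_of_link iotaCE RC RE hrelsCE CertE.Y hYE 3024 (64 * 5) (by norm_num)
    CertE.main_index card_PC.1 card_PC.2
  exact ⟨h1, by norm_num at h2 ⊢; exact h2⟩

end Cfsg.Agent.Helper96.L34
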